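import Mathlib
import Cfsg.Agent.H988.CopCyc.Orth
import Cfsg.Agent.H596.FldFacts
import Cfsg.Agent.S0292
import Cfsg.Agent.S0293
import Cfsg.Agent.S0294
import Cfsg.Agent.Prune
set_option linter.all false
prune_inst 0x7f00000000000000000000000000000000000000000000000000000000000000000000000000000000000000000000000000000000000000000000000000000000000000000000000000000000000000003fffffffffdfffffffffffffffffbeffbdffffffff
open scoped Cfsg.Agent.FastGrp

-- part: H334/Moved/Eigen
section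
/-!
# Linear maps commuting with a semilinear map (helper334, task 3014 for S4761)

`exists_dvd` : let `V` be a vector space of dimension `N` over the finite field `F`, `x ≠ 1` an element of `End V` with `x ^ s = 1`,
`s` a prime which is not the characteristic.  If `x` commutes with a bijection `g` of `V` which is semilinear with respect to the
automorphism `φ` of `F`, then `s ∣ q₀ ^ i - 1` for some `1 ≤ i ≤ N`, where `q₀` is the order of the fixed field of `φ`.
-/

set_option autoImplicit false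

namespace Cfsg.Agent.H334.Moved

open Polynomial

/-- The fixed field of `φ`. -/
abbrev fixF {F : Type*} [Field F] (φ : F ≃+* F) : Subfield F := (φ : F →+* F).eqLocusField (RingHom.id F)

theorem mem_fixF {F : Type*} [Field F] {φ : F ≃+* F} {a : F} : a ∈ fixF φ ↔ φ a = a := Iff.rfl

section

variable {F V : Type*} [Field F] [AddCommGroup V] [Module F V] [FiniteDimensional F V]

/-- The minimal polynomial of an endomorphism commuting with a semilinear bijection. -/
theorem map_minpoly (φ : F ≃+* F) (g : V → V) (hgs : Function.Bijective g) (hga : ∀ u v, g (u + v) = g u + g v)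
    (hg : ∀ (a : F) v, g (a • v) = φ a • g v) (x : Module.End F V) (hx : ∀ v, g (x v) = x (g v)) :
    (minpoly F x).map (φ : F →+* F) = minpoly F x := by
  have hint : IsIntegral F x := Algebra.IsIntegral.isIntegral x
  have hg0 : g 0 = 0 := by
    have := hga 0 0
    rw [add_zero] at this
    exact left_eq_add.1 this
  have hpow : ∀ (n : ℕ) (v : V), g ((x ^ n) v) = (x ^ n) (g v) := by
    intro n
    induction n with
    | zero => intro v; rfl
    | succ n ih => intro v; rw [pow_succ, Module.End.mul_apply, Module.End.mul_apply, ih, hx]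
  have key : ∀ (f : F[X]) (v : V), aeval x (f.map (φ : F →+* F)) (g v) = g (aeval x f v) := by
    intro f v
    induction f using Polynomial.induction_on with
    | C a =>
      simp only [Polynomial.map_C, aeval_C, Module.algebraMap_end_apply, hg]
      rfl
    | add f₁ f₂ h₁ h₂ =>
      simp only [Polynomial.map_add, map_add, LinearMap.add_apply, hga, h₁, h₂]
    | monomial n a _ =>
      simp only [Polynomial.map_mul, Polynomial.map_C, Polynomial.map_pow, Polynomial.map_X, map_mul, aeval_C,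
        map_pow, aeval_X, Module.End.mul_apply, Module.algebraMap_end_apply, hg, hpow]
      rfl
  have h0 : aeval x ((minpoly F x).map (φ : F →+* F)) = 0 := by
    apply LinearMap.ext
    intro w
    obtain ⟨v, rfl⟩ := hgs.2 w
    rw [key, minpoly.aeval, LinearMap.zero_apply, hg0, LinearMap.zero_apply]
  refine (minpoly.unique F x ((minpoly.monic hint).map _) h0 ?_)
  intro k hk hk0
  rw [degree_map]
  exact minpoly.min F x hk hk0

theorem exists_dvd [Finite F] (φ : F ≃+* F) (g : V → V) (hgs : Function.Bijective g)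
    (hga : ∀ u v, g (u + v) = g u + g v)
    (hg : ∀ (a : F) v, g (a • v) = φ a • g v) (x : Module.End F V) (hx : ∀ v, g (x v) = x (g v)) {s : ℕ}
    (hs : s.Prime) (hsF : (s : F) ≠ 0) (hxs : x ^ s = 1) (hx1 : x ≠ 1) :
    ∃ i, 1 ≤ i ∧ i ≤ Module.finrank F V ∧ s ∣ Nat.card (fixF φ) ^ i - 1 := by
  classical
  set K := fixF φ with hK
  have hint : IsIntegral F x := Algebra.IsIntegral.isIntegral x
  have hmap := map_minpoly φ g hgs hga hg x hx
  have hlift : minpoly F x ∈ Polynomial.lifts (algebraMap K F) := by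
    rw [Polynomial.lifts_iff_coeff_lifts]
    intro n
    have h1 : φ ((minpoly F x).coeff n) = (minpoly F x).coeff n := by
      conv_rhs => rw [← hmap]
      rw [coeff_map]
      rfl
    exact ⟨⟨_, mem_fixF.2 h1⟩, rfl⟩
  obtain ⟨μ, hμ, hμd, hμm⟩ := Polynomial.lifts_and_natDegree_eq_and_monic hlift (minpoly.monic hint)
  -- the geometric sum
  set Φ : K[X] := ∑ j ∈ Finset.range s, X ^ j with hΦ
  have hmul : (X ^ s - 1 : K[X]) = Φ * (X - 1) := (geom_sum_mul X s).symm
  have hdvd : μ ∣ Φ * (X - 1) := by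
    rw [← hmul, ← Polynomial.map_dvd_map' (algebraMap K F), hμ]
    apply minpoly.dvd
    simp only [hxs, _root_.Polynomial.map_sub, _root_.Polynomial.map_pow, _root_.Polynomial.map_X, _root_.Polynomial.map_one, _root_.Polynomial.aeval_sub, _root_.map_pow, _root_.Polynomial.aeval_X, _root_.map_one, _root_.sub_self]
  have hncop : ¬ IsCoprime μ Φ := by
    intro hc
    have h1 := hc.dvd_of_dvd_mul_left hdvd
    rw [← Polynomial.map_dvd_map' (algebraMap K F), hμ] at h1
    obtain ⟨c, hc⟩ := h1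
    have h2 : aeval x ((X - 1 : K[X]).map (algebraMap K F)) = 0 := by
      rw [hc, map_mul, minpoly.aeval, zero_mul]
    simp only [Polynomial.map_sub, map_X, Polynomial.map_one, map_sub, aeval_X, map_one] at h2
    exact hx1 (sub_eq_zero.1 h2)
  obtain ⟨ψ, hψ, hψμ, hψΦ⟩ : ∃ ψ : K[X], Irreducible ψ ∧ ψ ∣ μ ∧ ψ ∣ Φ := by
    have h1 : ¬ IsUnit (EuclideanDomain.gcd μ Φ) := by
      rw [EuclideanDomain.gcd_isUnit_iff]
      exact hncop
    have h2 : EuclideanDomain.gcd μ Φ ≠ 0 := by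
      intro h
      exact hμm.ne_zero (EuclideanDomain.gcd_eq_zero_iff.1 h).1
    obtain ⟨ψ, hψ, hd⟩ := WfDvdMonoid.exists_irreducible_factor h1 h2
    exact ⟨ψ, hψ, hd.trans (EuclideanDomain.gcd_dvd_left _ _), hd.trans (EuclideanDomain.gcd_dvd_right _ _)⟩
  have hirr : Fact (Irreducible ψ) := ⟨hψ⟩
  let ζ : AdjoinRoot ψ := AdjoinRoot.root ψ
  have hΦζ : aeval ζ Φ = 0 := by
    rw [AdjoinRoot.aeval_eq, AdjoinRoot.mk_eq_zero]
    exact hψΦ
  have hζs : ζ ^ s = 1 := by
    have h1 : aeval ζ (X ^ s - 1 : K[X]) = 0 := by rw [hmul, map_mul, hΦζ, zero_mul]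
    simp only [map_sub, map_pow, aeval_X, map_one] at h1
    exact sub_eq_zero.1 h1
  have hζ1 : ζ ≠ 1 := by
    intro h
    rw [h, hΦ] at hΦζ
    simp only [map_sum, map_pow, aeval_X, one_pow, Finset.sum_const, Finset.card_range, nsmul_eq_mul, mul_one] at hΦζ
    apply hsF
    have h1 : algebraMap K (AdjoinRoot ψ) (s : K) = 0 := by rw [map_natCast]; exact hΦζ
    have h2 : (s : K) = 0 := (algebraMap K (AdjoinRoot ψ)).injective (by rw [h1, map_zero])
    have h3 := congrArg (algebraMap K F) h2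
    rwa [map_natCast, map_zero] at h3
  have hdeg : ψ.natDegree ≤ Module.finrank F V := by
    have h1 : ψ.natDegree ≤ μ.natDegree := natDegree_le_of_dvd hψμ hμm.ne_zero
    rw [hμd] at h1
    have h2 : (minpoly F x).natDegree ≤ (LinearMap.charpoly x).natDegree :=
      natDegree_le_of_dvd (LinearMap.minpoly_dvd_charpoly x) (LinearMap.charpoly_monic x).ne_zero
    rw [LinearMap.charpoly_natDegree] at h2
    exact h1.trans h2
  refine ⟨ψ.natDegree, hψ.natDegree_pos, hdeg, ?_⟩
  have hfinK : Finite K := inferInstance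
  have hfd : FiniteDimensional K (AdjoinRoot ψ) := (AdjoinRoot.powerBasis hψ.ne_zero).finite
  have hfin : Finite (AdjoinRoot ψ) := Module.finite_of_finite K
  have := Fintype.ofFinite K
  have := Fintype.ofFinite (AdjoinRoot ψ)
  have hcard : Nat.card (AdjoinRoot ψ) = Nat.card K ^ ψ.natDegree := by
    rw [Nat.card_eq_fintype_card, Nat.card_eq_fintype_card, Module.card_eq_pow_finrank (K := K),
      (AdjoinRoot.powerBasis hψ.ne_zero).finrank, AdjoinRoot.powerBasis_dim]
  have hζ0 : ζ ≠ 0 := by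
    rintro h
    rw [h, zero_pow hs.ne_zero] at hζs
    exact zero_ne_one hζs
  have hord : orderOf (Units.mk0 ζ hζ0) = s := by
    have : Fact s.Prime := ⟨hs⟩
    apply orderOf_eq_prime
    · apply Units.ext
      push_cast
      exact hζs
    · intro h
      exact hζ1 (congrArg Units.val h)
  rw [← hcard, Nat.card_eq_fintype_card, ← Fintype.card_units, ← Nat.card_eq_fintype_card, ← hord]
  exact orderOf_dvd_natCard _

end

end Cfsg.Agent.H334.Moved
end

-- part: H334/Moved/Orth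
section
/-!
# Coprime automorphisms of orthogonal groups: fixed points (helper334, task 3014 for S4761)
-/

set_option autoImplicit false

namespace Cfsg.Agent.H334.Moved

open QuadraticMap Cfsg.Agent.LieClassical.OrthCore Cfsg.Agent.LieClassical.OrthTrans
  Cfsg.Agent.LieClassical.OrthSimple Cfsg.Agent.LieClassical.OrthForms
  Cfsg.Agent.ClassicalGeometry.OrthSemi Cfsg.Agent.ClassicalGeometry.OrthSemiForms
open Cfsg.Agent.H596.Fld Cfsg.Agent.H988.CopCyc

/-- The order of the fixed field. -/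
theorem card_fixF {F : Type*} [Field F] [Finite F] (φ : F ≃+* F) : Nat.card (fixF φ) ^ orderOf φ = Nat.card F := by
  classical
  have := Fintype.ofFinite F
  have hfin : Finite (F ≃+* F) := Finite.of_injective (fun f : F ≃+* F => (f : F → F)) DFunLike.coe_injective
  have hG : Finite (Subgroup.zpowers φ) := inferInstance
  have := Fintype.ofFinite (Subgroup.zpowers φ)
  have heq : (fixF φ : Set F) = FixedPoints.subfield (Subgroup.zpowers φ) F := by
    ext a
    constructor
    · intro ha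
      rintro ⟨_, n, rfl⟩
      have h1 : φ ∈ MulAction.stabilizer (F ≃+* F) a := ha
      exact (MulAction.stabilizer (F ≃+* F) a).zpow_mem h1 n
    · intro ha
      exact ha ⟨φ, Subgroup.mem_zpowers φ⟩
  have hK : Nat.card (fixF φ) = Nat.card (FixedPoints.subfield (Subgroup.zpowers φ) F) := by
    exact congrArg (fun s : Set F => Nat.card s) heq
  have h1 : Module.finrank (FixedPoints.subfield (Subgroup.zpowers φ) F) F = orderOf φ := by
    rw [FixedPoints.finrank_eq_card, ← Nat.card_eq_fintype_card, Nat.card_zpowers]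
  have := Fintype.ofFinite (FixedPoints.subfield (Subgroup.zpowers φ) F)
  rw [hK, ← h1, Nat.card_eq_fintype_card, Nat.card_eq_fintype_card]
  exact (Module.card_eq_pow_finrank).symm

section

variable {F V : Type*} [Field F] [AddCommGroup V] [Module F V] {Q : QuadraticForm F V}

theorem center_sq (hG : Good Q) {z : ↥(E Q)} (hz : z ∈ Subgroup.center ↥(E Q)) : z * z = 1 := by
  have hiso : ∀ v, Q (z.1 v) = Q v := fun v => E_le_O z.2 v
  let M : Gam Q := ⟨z.1.toEquiv, RingEquiv.refl F, 1, one_ne_zero, fun u v => map_add z.1 u v,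
    fun a v => map_smul z.1 a v, fun v => by rw [one_mul]; exact hiso v⟩
  have hM : conjE Q M = 1 := by
    ext k : 2
    show conjLin M k.1 = k.1
    ext v
    obtain ⟨v, rfl⟩ := M.1.surjective v
    rw [conjLin_apply']
    have h1 := (Subgroup.mem_center_iff.1 hz k)
    have h2 := LinearEquiv.congr_fun (congrArg Subtype.val h1) v
    exact h2.symm
  obtain ⟨a, ha, hMa⟩ := exists_scalar_of_conjE hG M hM
  obtain ⟨x, y, hxy⟩ := hG.exists_hyp
  have hza : ∀ v, z.1 v = a • v := hMa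
  have h1 := polar_map (E_le_O z.2) x y
  rw [hza, hza, polar_smul_left, polar_smul_right, hxy.pair] at h1
  have h2 : a * a = 1 := by
    simpa only [_root_.smul_eq_mul, _root_.mul_one] using h1
  apply Subtype.ext
  apply LinearEquiv.ext
  intro v
  show z.1 (z.1 v) = v
  rw [hza, hza, smul_smul, h2, one_smul]

theorem isSS_pow {φ : F ≃+* F} {c : F} {M : Equiv.Perm V} (h : IsSS Q φ c M) (n : ℕ) :
    ∃ d, IsSS Q (φ ^ n) d (M ^ n) := by
  induction n with
  | zero => exact ⟨1, one_ne_zero, fun _ _ => rfl, fun _ _ => rfl, fun _ => by rw [one_mul]; rfl⟩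
  | succ n ih =>
    obtain ⟨d, hd⟩ := ih
    rw [pow_succ, pow_succ]
    exact ⟨_, hd.mul h⟩

/-- **Fixed points of coprime automorphisms of the orthogonal groups.** -/
theorem orth_core [Finite F] [FiniteDimensional F V] (hG : Good Q)
    [Finite (↥(E Q) ⧸ Subgroup.center ↥(E Q))] (h2 : 2 ∣ Nat.card (↥(E Q) ⧸ Subgroup.center ↥(E Q)))
    (α : MulAut (↥(E Q) ⧸ Subgroup.center ↥(E Q))) (hα : α ∈ (Psi Q).range) (hp : (orderOf α).Prime)
    (hd : ¬ orderOf α ∣ Nat.card (↥(E Q) ⧸ Subgroup.center ↥(E Q))) :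
    ∃ q₀ : ℕ, q₀ ^ orderOf α = Nat.card F ∧ ∀ s : ℕ, s.Prime → s ≠ 2 → (s : F) ≠ 0 → s ∣ Nat.card (fx α) →
      ∃ i, 1 ≤ i ∧ i ≤ Module.finrank F V ∧ s ∣ q₀ ^ i - 1 := by
  obtain ⟨g, rfl⟩ := hα
  obtain ⟨φ, c, hg⟩ := g.2
  have hcop : (Nat.card (Subgroup.zpowers (Psi Q g))).Coprime (Nat.card (↥(E Q) ⧸ Subgroup.center ↥(E Q))) := by
    rw [Nat.card_zpowers]
    exact (Nat.Prime.coprime_iff_not_dvd hp).2 hd
  have hφ1 : φ ≠ 1 := by
    rintro rfl
    have h1 := eq_one_of_pow_inner hcop (Subgroup.mem_zpowers (Psi Q g)) (n := 4) (fun r hr hd => by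
      have h4 : r ∣ 2 ^ 2 := hd
      rwa [(Nat.prime_dvd_prime_iff_eq hr Nat.prime_two).1 (hr.dvd_of_dvd_pow h4)]) (Orth.pow_four_inner hG g hg)
    rw [h1, orderOf_one] at hp
    exact Nat.not_prime_one hp
  have hφp : φ ^ orderOf (Psi Q g) = 1 := by
    have h1 : g ^ orderOf (Psi Q g) ∈ (Psi Q).ker := by
      rw [MonoidHom.mem_ker, map_pow, pow_orderOf_eq_one]
    rw [ker_Psi hG] at h1
    obtain ⟨a, ha⟩ := h1
    obtain ⟨d, hd'⟩ := isSS_pow hg (orderOf (Psi Q g))
    have hga : ∀ v, (g.1 ^ orderOf (Psi Q g)) v = (a : F) • v := by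
      intro v
      have h2 := congrArg Subtype.val ha
      rw [Subgroup.coe_pow] at h2
      rw [← h2]
      rfl
    obtain ⟨x, y, hxy⟩ := hG.exists_hyp
    ext t
    have h3 := hd'.smul t x
    simp only [hga, hga, smul_smul, smul_smul] at h3
    have h4 : ((a : F) * t - (φ ^ orderOf (Psi Q g)) t * (a : F)) • x = 0 := by
      rw [sub_smul, h3, sub_self]
    rcases smul_eq_zero.1 h4 with h5 | h5
    · have h6 : (t - (φ ^ orderOf (Psi Q g)) t) * (a : F) = 0 := by linear_combination h5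
      rcases mul_eq_zero.1 h6 with h7 | h7
      · exact (sub_eq_zero.1 h7).symm
      · exact absurd h7 a.ne_zero
    · exact absurd h5 hxy.left_ne
  have hoφ : orderOf φ = orderOf (Psi Q g) := by
    have : Fact (orderOf (Psi Q g)).Prime := ⟨hp⟩
    exact orderOf_eq_prime hφp hφ1
  refine ⟨Nat.card (fixF φ), by rw [← hoφ]; exact card_fixF φ, ?_⟩
  intro s hs hs2 hsF hsd
  have : Fact s.Prime := ⟨hs⟩
  obtain ⟨⟨y, hyf⟩, hy⟩ := exists_prime_orderOf_dvd_card' s hsd
  rw [Subgroup.orderOf_mk] at hy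
  obtain ⟨h, rfl⟩ := QuotientGroup.mk'_surjective (Subgroup.center ↥(E Q)) y
  rw [QuotientGroup.mk'_apply] at hyf hy
  have hyf' : Psi Q g (QuotientGroup.mk h) = QuotientGroup.mk h := hyf
  have hys : (QuotientGroup.mk h : ↥(E Q) ⧸ Subgroup.center ↥(E Q)) ^ s = 1 := by
    rw [← hy]; exact pow_orderOf_eq_one _
  have hy1 : (QuotientGroup.mk h : ↥(E Q) ⧸ Subgroup.center ↥(E Q)) ≠ 1 := by
    intro h1
    rw [h1, orderOf_one] at hy
    exact hs.one_lt.ne hy
  have hcen : h ^ s ∈ Subgroup.center ↥(E Q) := by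
    rw [← QuotientGroup.eq_one_iff, QuotientGroup.mk_pow]
    exact hys
  have hsodd : Odd s := hs.odd_of_ne_two hs2
  obtain ⟨k, hk⟩ := hsodd
  set x : ↥(E Q) := h ^ (s + 1) with hx
  have hxs : x ^ s = 1 := by
    rw [hx, ← pow_mul, mul_comm, pow_mul, hk, show 2 * k + 1 + 1 = 2 * (k + 1) by ring, pow_mul, pow_two, ← hk,
      center_sq hG hcen, one_pow]
  have hxm : (QuotientGroup.mk x : ↥(E Q) ⧸ Subgroup.center ↥(E Q)) = QuotientGroup.mk h := by
    rw [hx, QuotientGroup.mk_pow, pow_succ, hys, one_mul]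
  have hconj : conjE Q g x = x := by
    have h1 : (QuotientGroup.mk (conjE Q g x) : ↥(E Q) ⧸ Subgroup.center ↥(E Q)) = QuotientGroup.mk x := by
      rw [← Psi_mk, hxm]
      exact hyf'
    set z := x⁻¹ * conjE Q g x with hz
    have hzc : z ∈ Subgroup.center ↥(E Q) := QuotientGroup.eq.1 h1.symm
    have h3 : conjE Q g x = x * z := by rw [hz, mul_inv_cancel_left]
    have h4 : (conjE Q g x) ^ s = 1 := by rw [← map_pow, hxs, map_one]
    have hcxz : Commute x z := Subgroup.mem_center_iff.1 hzc x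
    rw [h3, hcxz.mul_pow, hxs, one_mul] at h4
    have h5 : z = 1 := by
      have h6 := h4
      rw [hk, pow_succ, pow_mul, pow_two, center_sq hG hzc, one_pow, one_mul] at h6
      exact h6
    rw [h3, h5, mul_one]
  have hcomm : ∀ v, g.1 (x.1 v) = x.1 (g.1 v) := by
    intro v
    have h1 := congrArg Subtype.val hconj
    rw [coe_conjE] at h1
    rw [← conjLin_apply', h1]
  refine exists_dvd φ g.1 g.1.bijective hg.add hg.smul (x.1 : V →ₗ[F] V) hcomm hs hsF ?_ ?_
  · apply LinearMap.ext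
    intro v
    have h1 : ∀ n : ℕ, ((x.1 : V →ₗ[F] V) ^ n) v = (x ^ n : ↥(E Q)).1 v := by
      intro n
      induction n generalizing v with
      | zero => rfl
      | succ n ih =>
        rw [pow_succ, Module.End.mul_apply, ih, pow_succ]
        rfl
    rw [h1, hxs]
    rfl
  · intro h1
    apply hy1
    rw [← hxm]
    have h2 : x = 1 := by
      apply Subtype.ext
      apply LinearEquiv.ext
      intro v
      exact LinearMap.congr_fun h1 v
    rw [h2]
    rfl

/-- **Numbers.** Two primes for a coprime automorphism, from the eigenvalue bound. -/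
theorem moved_of_bound {S : Type*} [Group S] [Finite S] {α : MulAut S} (hp : (orderOf α).Prime)
    (hd : ¬ orderOf α ∣ Nat.card S) (h2 : 2 ∣ Nat.card S) {q q₀ m N : ℕ} (hq0 : 2 ≤ q₀) (hq : q₀ ^ orderOf α = q)
    (hm : 1 ≤ m) (hN : N ≤ 2 * m + 2)
    (hnum : ∀ r : ℕ, r.Prime → r ≠ 2 → (r ∣ q → r ∣ Nat.card S) ∧
      ∀ i, 1 ≤ i → i ≤ m → r ∣ q ^ (2 * i) - 1 → r ∣ Nat.card S)
    (hfx : ∀ s : ℕ, s.Prime → s ≠ 2 → ¬ s ∣ q → s ∣ Nat.card (fx α) → ∃ i, 1 ≤ i ∧ i ≤ N ∧ s ∣ q₀ ^ i - 1) :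
    Moved α := by
  set p := orderOf α with hpdef
  have hp2 : p ≠ 2 := by
    intro h
    rw [h] at hd
    exact hd h2
  have hpodd := hp.odd_of_ne_two hp2
  obtain ⟨hn1, hn2⟩ := hnum p hp hp2
  have hpq : ¬ p ∣ q := fun h => hd (hn1 h)
  have hcopq : q.Coprime p := ((Nat.Prime.coprime_iff_not_dvd hp).2 hpq).symm
  have hbig : N < p := by
    by_contra hle
    push Not at hle
    obtain ⟨k, hk⟩ := hpodd
    have hk1 : 1 ≤ k := by
      have := hp.two_le
      omega
    apply hd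
    apply hn2 k hk1 (by omega)
    have : Fact p.Prime := ⟨hp⟩
    have h1 := ZMod.pow_card_sub_one_eq_one (p := p) (a := (q : ZMod p)) (fun h => hpq ((ZMod.natCast_eq_zero_iff _ _).1 h))
    rw [dvd_pow_sub_one_iff (by rw [← hq]; positivity), ← h1]
    congr 1
    omega
  have hq2 : ¬ p ∣ q ^ 2 - 1 := fun h => hd (hn2 1 le_rfl hm h)
  have hqm : q ^ 2 - 1 = (q + 1) * (q - 1) := by
    have := Nat.sq_sub_sq q 1
    rwa [one_pow] at this
  obtain ⟨s₁, s₂, hs₁, hs₂, hne, hd₁, hd₂, ho₁, ho₂, hn₁, hn₂⟩ := exists_primes (q₀ := q₀) hp hp2 hq0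
    (by rw [hq]; intro h; exact hq2 (by rw [hqm]; exact h.mul_left _))
    (by rw [hq]; intro h; exact hq2 (by rw [hqm]; exact h.mul_right _))
  have hferm : ∀ s : ℕ, s.Prime → ¬ s ∣ q₀ → s ∣ q₀ ^ (s - 1) - 1 := by
    intro s hs hsq
    have : Fact s.Prime := ⟨hs⟩
    rw [dvd_pow_sub_one_iff (by omega)]
    exact ZMod.pow_card_sub_one_eq_one (fun h => hsq ((ZMod.natCast_eq_zero_iff _ _).1 h))
  have h12 : s₁ ≠ 2 := by
    rintro rfl
    have h1 := ho₁ _ (hferm 2 hs₁ hn₁)
    exact hp.one_lt.ne' (Nat.dvd_one.1 h1)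
  have h22 : s₂ ≠ 2 := by
    rintro rfl
    have h1 := ho₂ _ (hferm 2 hs₂ hn₂)
    have h3 := (dvd_mul_left p 2).trans h1
    exact hp.one_lt.ne' (Nat.dvd_one.1 h3)
  rw [hq] at hd₁ hd₂
  have hS₁ : s₁ ∣ Nat.card S := (hnum s₁ hs₁ h12).2 1 le_rfl hm (by rw [mul_one, hqm]; exact hd₁.mul_left _)
  have hS₂ : s₂ ∣ Nat.card S := (hnum s₂ hs₂ h22).2 1 le_rfl hm (by rw [mul_one, hqm]; exact hd₂.mul_right _)
  refine moved_of_primes hp hd hs₁ hs₂ hne hS₁ hS₂ ?_ ?_
  · intro h
    obtain ⟨i, hi1, hiN, hi⟩ := hfx s₁ hs₁ h12 (fun h => hn₁ (hs₁.dvd_of_dvd_pow (hq ▸ h))) h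
    have := Nat.le_of_dvd (by omega) (ho₁ i hi)
    omega
  · intro h
    obtain ⟨i, hi1, hiN, hi⟩ := hfx s₂ hs₂ h22 (fun h => hn₂ (hs₂.dvd_of_dvd_pow (hq ▸ h))) h
    have := Nat.le_of_dvd (by omega) ((dvd_mul_left p 2).trans (ho₂ i hi))
    omega

theorem orth_moved [Fintype F] [FiniteDimensional F V] (hG : Good Q)
    [Finite (↥(E Q) ⧸ Subgroup.center ↥(E Q))] (h2 : 2 ∣ Nat.card (↥(E Q) ⧸ Subgroup.center ↥(E Q))) {m : ℕ}
    (hm : 1 ≤ m) (hN : Module.finrank F V ≤ 2 * m + 2)
    (hnum : ∀ r : ℕ, r.Prime → r ≠ 2 → (r ∣ Fintype.card F → r ∣ Nat.card (↥(E Q) ⧸ Subgroup.center ↥(E Q))) ∧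
      ∀ i, 1 ≤ i → i ≤ m → r ∣ Fintype.card F ^ (2 * i) - 1 → r ∣ Nat.card (↥(E Q) ⧸ Subgroup.center ↥(E Q)))
    (α : MulAut (↥(E Q) ⧸ Subgroup.center ↥(E Q))) (hα : α ∈ (Psi Q).range) (hp : (orderOf α).Prime)
    (hd : ¬ orderOf α ∣ Nat.card (↥(E Q) ⧸ Subgroup.center ↥(E Q))) : Moved α := by
  obtain ⟨q₀, hq, hfx⟩ := orth_core hG h2 α hα hp hd
  rw [Nat.card_eq_fintype_card] at hq
  have hq0 : 2 ≤ q₀ := by
    have h1 := Fintype.one_lt_card (α := F)
    rw [← hq] at h1
    by_contra hlt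
    have h3 : q₀ = 0 ∨ q₀ = 1 := by omega
    rcases h3 with rfl | rfl
    · rw [zero_pow hp.ne_zero] at h1
      omega
    · rw [one_pow] at h1
      omega
  refine moved_of_bound hp hd h2 hq0 hq hm hN hnum ?_
  intro s hs hs2 hsq hsd
  refine hfx s hs hs2 ?_ hsd
  intro h0
  apply hsq
  obtain ⟨p, hp⟩ := CharP.exists F
  have hpp : p.Prime := CharP.char_is_prime F p
  obtain ⟨f, -, hF⟩ := FiniteField.card F p
  have h1 : p ∣ s := (CharP.cast_eq_zero_iff F p s).1 h0
  rw [← (Nat.prime_dvd_prime_iff_eq hpp hs).1 h1, hF]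
  exact dvd_pow_self _ f.ne_zero

end

section rows

variable {F : Type} [Field F] [Fintype F]

open Cfsg.Agent.Schreier.ClassPOmega

/-- divisibility by odd primes through a factor which is a power of 2 -/
theorem dvd_of_gcd_four {r k c n : ℕ} (hr : r.Prime) (hr2 : r ≠ 2) (h : Nat.gcd 4 k * c = n) (hn : r ∣ n) : r ∣ c := by
  rw [← h] at hn
  rcases (Nat.Prime.dvd_mul hr).1 hn with h1 | h1
  · exfalso
    have h3 : r ∣ 2 ^ 2 := h1.trans (Nat.gcd_dvd_left _ _)
    exact hr2 ((Nat.prime_dvd_prime_iff_eq hr Nat.prime_two).1 (hr.dvd_of_dvd_pow h3))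
  · exact h1

theorem dvd_prod_aux {q m i : ℕ} (h1 : 1 ≤ i) (hi : i ≤ m) :
    q ^ (2 * i) - 1 ∣ ∏ j ∈ Finset.range m, (q ^ (2 * (j + 1)) - 1) := by
  have := Finset.dvd_prod_of_mem (fun j => q ^ (2 * (j + 1)) - 1) (a := i - 1) (s := Finset.range m)
    (Finset.mem_range.2 (by omega))
  rwa [Nat.sub_add_cancel h1] at this

/-- **`Ω_{2m+1}(q)`, `q` odd.** -/
theorem twoMoved_odd {m : ℕ} (hm : 3 ≤ m) (hodd : Odd (Fintype.card F))
    (h2 : 2 ∣ Nat.card (Cfsg.POmega F (Cfsg.quadFormOdd m F))) : TwoMoved (Cfsg.POmega F (Cfsg.quadFormOdd m F)) := by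
  have h20 : (2 : F) ≠ 0 := by
    intro h
    obtain ⟨p, hp⟩ := CharP.exists F
    have hpp : p.Prime := CharP.char_is_prime F p
    obtain ⟨f, -, hF⟩ := FiniteField.card F p
    have h1 : p ∣ 2 := (CharP.cast_eq_zero_iff F p 2).1 (by exact_mod_cast h)
    have h3 := (Nat.prime_dvd_prime_iff_eq hpp Nat.prime_two).1 h1
    rw [hF, h3] at hodd
    exact (Nat.not_odd_iff_even.2 ((Nat.even_pow.2 ⟨even_two, f.ne_zero⟩))) hodd
  have hG := good_odd (F := F) (m := m) (by omega) h20
  have e := pomegaEquiv hG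
  rw [coe_oddForm] at e
  have hnum := Cfsg.Agent.S0292.result (F := F) rfl hodd m hm
  refine TwoMoved.congr e ?_
  rw [Nat.card_congr e.toEquiv] at h2 hnum
  have hfin := Orth.finite_quot (oddForm m F)
  intro α hp hd
  refine orth_moved hG h2 (m := m) (by omega) ?_ ?_ α ?_ hp hd
  · rw [Module.finrank_fintype_fun_eq_card]
    simp only [_root_.Fintype.card_sum, _root_.Fintype.card_unique, _root_.Fintype.card_fin]
    omega
  · intro r hr hr2
    have key : ∀ n, r ∣ n → n ∣ Fintype.card F ^ (m ^ 2) * ∏ i ∈ Finset.range m, (Fintype.card F ^ (2 * (i + 1)) - 1) →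
        r ∣ Nat.card (↥(E (oddForm m F)) ⧸ Subgroup.center ↥(E (oddForm m F))) := by
      intro n h1 h3
      have h4 := h1.trans h3
      rw [← hnum] at h4
      rcases (Nat.Prime.dvd_mul hr).1 h4 with h5 | h5
      · exact absurd ((Nat.prime_dvd_prime_iff_eq hr Nat.prime_two).1 h5) hr2
      · exact h5
    refine ⟨fun h => key _ h ((dvd_pow_self _ (by positivity)).mul_right _), fun i h1 hi h => key _ h ?_⟩
    exact (dvd_prod_aux h1 hi).mul_left _
  · simp only [MonoidHom.range_eq_top.2 (Cfsg.Agent.AutOrth.Final.surjective_odd hm h20)]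
    trivial

/-- **`PΩ⁻_{2m}(q)`.** -/
theorem twoMoved_minus {m : ℕ} (hm : 4 ≤ m) (a b : F)
    (hab : ∀ z₁ z₂ : F, z₁ ^ 2 + a * z₁ * z₂ + b * z₂ ^ 2 = 0 → z₁ = 0 ∧ z₂ = 0)
    (h2 : 2 ∣ Nat.card (Cfsg.POmega F (Cfsg.quadFormMinus (m - 1) F a b))) :
    TwoMoved (Cfsg.POmega F (Cfsg.quadFormMinus (m - 1) F a b)) := by
  have hG := good_minus (F := F) (m := m - 1) (by omega) a b hab
  have e := pomegaEquiv hG
  rw [coe_minusForm] at e
  have hnum := Cfsg.Agent.S0294.result (F := F) rfl m hm a b hab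
  refine TwoMoved.congr e ?_
  rw [Nat.card_congr e.toEquiv] at h2 hnum
  have hfin := Orth.finite_quot (minusForm (m - 1) F a b)
  intro α hp hd
  refine orth_moved hG h2 (m := m - 1) (by omega) ?_ ?_ α ?_ hp hd
  · rw [Module.finrank_fintype_fun_eq_card]
    simp only [_root_.Fintype.card_sum, _root_.Fintype.card_fin, _root_.add_le_add_iff_right]
    omega
  · intro r hr hr2
    refine ⟨fun h => dvd_of_gcd_four hr hr2 hnum ?_, fun i h1 hi h => dvd_of_gcd_four hr hr2 hnum ?_⟩
    · refine Dvd.dvd.mul_right (Dvd.dvd.mul_right (h.trans (dvd_pow_self _ ?_)) _) _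
      have : 0 < m * (m - 1) := Nat.mul_pos (by omega) (by omega)
      omega
    · exact (h.trans (dvd_prod_aux h1 hi)).mul_left _
  · ((conv => enter [@4]; rw [MonoidHom.range_eq_top.2 (Cfsg.Agent.AutOrth.Final.surjective_minus (by omega) hab)]))
    trivial

/-- **`PΩ⁺_{2m}(q)`.** -/
theorem twoMoved_plus {m : ℕ} (hm : 4 ≤ m) (h2 : 2 ∣ Nat.card (Cfsg.POmega F (Cfsg.quadFormPlus m F)))
    (h3 : 3 ∣ Nat.card (Cfsg.POmega F (Cfsg.quadFormPlus m F))) :
    TwoMoved (Cfsg.POmega F (Cfsg.quadFormPlus m F)) := by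
  have hG := good_plus (F := F) (m := m) (by omega)
  have e := pomegaEquiv hG
  rw [coe_plusForm] at e
  have hnum := Cfsg.Agent.S0293.result (F := F) rfl m hm
  refine TwoMoved.congr e ?_
  rw [Nat.card_congr e.toEquiv] at h2 h3 hnum
  have hfin := Orth.finite_quot (plusForm m F)
  intro α hp hd
  refine orth_moved hG h2 (m := m - 1) (by omega) ?_ ?_ α ?_ hp hd
  · rw [Module.finrank_fintype_fun_eq_card]
    simp only [_root_.Fintype.card_sum, _root_.Fintype.card_fin]
    omega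
  · intro r hr hr2
    refine ⟨fun h => dvd_of_gcd_four hr hr2 hnum ?_, fun i h1 hi h => dvd_of_gcd_four hr hr2 hnum ?_⟩
    · refine Dvd.dvd.mul_right (Dvd.dvd.mul_right (h.trans (dvd_pow_self _ ?_)) _) _
      have : 0 < m * (m - 1) := Nat.mul_pos (by omega) (by omega)
      omega
    · exact (h.trans (dvd_prod_aux h1 hi)).mul_left _
  · by_cases h : m = 4
    · subst h
      have hidx := Cfsg.Agent.AutOrth.Final.index_plus_four (F := F)
      have h2' : ¬ 2 ∣ Nat.card (Subgroup.zpowers α) := by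
        rw [Nat.card_zpowers]
        intro h
        rw [(Nat.prime_dvd_prime_iff_eq Nat.prime_two hp).1 h] at h2
        exact hd h2
      have h3' : ¬ 3 ∣ Nat.card (Subgroup.zpowers α) := by
        rw [Nat.card_zpowers]
        intro h
        rw [(Nat.prime_dvd_prime_iff_eq Nat.prime_three hp).1 h] at h3
        exact hd h3
      exact le_of_index_le_four _ (Subgroup.zpowers α) (by rw [hidx]; norm_num) (by rw [hidx]; norm_num) h2' h3'
        (Subgroup.mem_zpowers α)
    · ((conv => enter [@4]; rw [MonoidHom.range_eq_top.2 (Cfsg.Agent.AutOrth.Final.surjective_plus (by omega))]))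
      trivial

end rows

end Cfsg.Agent.H334.Moved
end
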